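import Mathlib

/-!
Seven by seven matrices over the field with three elements packed as two masks of 49 bits, with elementary row and
column operations.
-/

set_option autoImplicit false

namespace Cfsg.Lib.OrthSevenThree

/-- A packed matrix: the mask of the ones and the mask of the minus ones. -/
abbrev Pk := ℕ × ℕ

/-- The masks are disjoint. -/
def OK (g : Pk) : Prop := ∀ k, ¬ (g.1.testBit k = true ∧ g.2.testBit k = true)

/-- Entrywise addition. -/
def addB (a b : Pk) : Pk :=
  ((a.1 ||| b.1) ^^^ ((a.1 ||| b.1) &&& ((a.1 ||| a.2) &&& (b.1 ||| b.2))) ||| (a.2 &&& b.2),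
    (a.2 ||| b.2) ^^^ ((a.2 ||| b.2) &&& ((a.1 ||| a.2) &&& (b.1 ||| b.2))) ||| (a.1 &&& b.1))

/-- An elementary matrix: position and whether the entry is a one (or a minus one). -/
abbrev El := ℕ × ℕ × Bool

/-- The mask of the first column. -/
def colMask : ℕ := 4432676798593

/-- Left multiplication by an elementary matrix. -/
def lop (e : El) (g : Pk) : Pk :=
  let rp := (g.1 >>> (7 * e.2.1)) &&& 127
  let rn := (g.2 >>> (7 * e.2.1)) &&& 127
  addB g (if e.2.2 then (rp <<< (7 * e.1), rn <<< (7 * e.1)) else (rn <<< (7 * e.1), rp <<< (7 * e.1)))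

/-- Right multiplication by an elementary matrix. -/
def rop (g : Pk) (e : El) : Pk :=
  let rp := (g.1 >>> e.1) &&& colMask
  let rn := (g.2 >>> e.1) &&& colMask
  addB g (if e.2.2 then (rp <<< e.2.1, rn <<< e.2.1) else (rn <<< e.2.1, rp <<< e.2.1))

/-- Left multiplication by a product of elementary matrices. -/
def leftW (w : List El) (g : Pk) : Pk := w.foldr lop g

/-- Right multiplication by a product of elementary matrices. -/
def rightW (g : Pk) (w : List El) : Pk := w.foldl rop g

/-- The identity. -/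
def oneP : Pk := (282578800148737, 0)

/-- An entry. -/
def entry (g : Pk) (k : ℕ) : ZMod 3 := if g.1.testBit k then 1 else if g.2.testBit k then -1 else 0

/-- The matrix of a packed matrix. -/
def dec (g : Pk) : Matrix (Fin 7) (Fin 7) (ZMod 3) := Matrix.of fun r c => entry g (7 * r.val + c.val)

/-- An elementary matrix. -/
def elM (e : El) : Matrix (Fin 7) (Fin 7) (ZMod 3) :=
  1 + Matrix.single (Fin.ofNat 7 e.1) (Fin.ofNat 7 e.2.1) (if e.2.2 then 1 else -1)

/-- A product of elementary matrices. -/
def wordM (w : List El) : Matrix (Fin 7) (Fin 7) (ZMod 3) := (w.map elM).prod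

/-- The positions are in range. -/
def inRange (w : List El) : Bool := w.all fun e => decide (e.1 < 7) && decide (e.2.1 < 7)

theorem addB_spec {a b : Pk} (ha : OK a) (hb : OK b) :
    OK (addB a b) ∧ ∀ k, entry (addB a b) k = entry a k + entry b k := by
  constructor
  · intro k
    have h1 := ha k
    have h2 := hb k
    simp only [addB, Nat.testBit_or, Nat.testBit_and, Nat.testBit_xor]
    revert h1 h2
    cases a.1.testBit k <;> cases a.2.testBit k <;> cases b.1.testBit k <;> cases b.2.testBit k <;> simp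
  · intro k
    have h1 := ha k
    have h2 := hb k
    simp only [entry, addB, Nat.testBit_or, Nat.testBit_and, Nat.testBit_xor]
    revert h1 h2
    cases a.1.testBit k <;> cases a.2.testBit k <;> cases b.1.testBit k <;> cases b.2.testBit k <;> decide

theorem row_bit (P i j r c : ℕ) (hc : c < 7) :
    ((((P >>> (7 * j)) &&& 127) <<< (7 * i)).testBit (7 * r + c)) = (decide (r = i) && P.testBit (7 * j + c)) := by
  rw [Nat.testBit_shiftLeft, Nat.testBit_and, Nat.testBit_shiftRight, show (127 : ℕ) = 2 ^ 7 - 1 by norm_num,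
    Nat.testBit_two_pow_sub_one]
  rcases Nat.lt_trichotomy r i with h | h | h
  · have : ¬ (7 * r + c ≥ 7 * i) := by omega
    simp [this, Nat.ne_of_lt h]
  · subst h
    simp [hc]
  · have h1 : 7 * r + c - 7 * i ≥ 7 := by omega
    simp [show ¬ r = i by omega, show ¬ (7 * r + c - 7 * i < 7) by omega]

theorem colMask_bit (k : ℕ) : colMask.testBit k = decide (k < 49 ∧ k % 7 = 0) := by
  rcases Nat.lt_or_ge k 49 with h | h
  · have : ∀ k : Fin 49, colMask.testBit k.val = decide (k.val < 49 ∧ k.val % 7 = 0) := by decide +kernel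
    exact this ⟨k, h⟩
  · rw [Nat.testBit_eq_false_of_lt (lt_of_lt_of_le (by norm_num [colMask]) (Nat.pow_le_pow_right (by norm_num) h)),
      eq_comm, decide_eq_false_iff_not]
    omega

theorem col_bit (P i j r c : ℕ) (hr : r < 7) (hc : c < 7) (hi : i < 7) (hj : j < 7) :
    ((((P >>> i) &&& colMask) <<< j).testBit (7 * r + c)) = (decide (c = j) && P.testBit (7 * r + i)) := by
  rw [Nat.testBit_shiftLeft, Nat.testBit_and, Nat.testBit_shiftRight, colMask_bit]
  by_cases h : c = j
  · subst h
    simp only [ge_iff_le, Nat.add_sub_cancel, le_add_iff_nonneg_left, zero_le, decide_true, Bool.true_and]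
    rw [show decide (7 * r < 49 ∧ 7 * r % 7 = 0) = true by simp; omega, Bool.and_true, add_comm i]
  · by_cases hle : j ≤ 7 * r + c
    · have : ¬ (7 * r + c - j < 49 ∧ (7 * r + c - j) % 7 = 0) := by omega
      simp [h, this]
    · simp [h, hle]

theorem dec_single_left (e : El) (hi : e.1 < 7) (hj : e.2.1 < 7) (g : Pk) (r c : Fin 7) :
    (elM e * dec g) r c =
      dec g r c + (if r.val = e.1 then (if e.2.2 then (1 : ZMod 3) else -1) * entry g (7 * e.2.1 + c.val) else 0) := by
  rw [elM, Matrix.add_mul, Matrix.one_mul, Matrix.add_apply]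
  congr 1
  by_cases h : r.val = e.1
  · have : r = Fin.ofNat 7 e.1 := Fin.ext (by simp [h, Nat.mod_eq_of_lt hi])
    rw [if_pos h, ← this, Matrix.single_mul_apply_same]
    simp [dec, Nat.mod_eq_of_lt hj]
  · rw [if_neg h, Matrix.single_mul_apply_of_ne _ _ _ _ _ (fun e' => h (by simp [e', Nat.mod_eq_of_lt hi]))]

theorem dec_single_right (e : El) (hi : e.1 < 7) (hj : e.2.1 < 7) (g : Pk) (r c : Fin 7) :
    (dec g * elM e) r c =
      dec g r c + (if c.val = e.2.1 then entry g (7 * r.val + e.1) * (if e.2.2 then (1 : ZMod 3) else -1) else 0) := by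
  rw [elM, Matrix.mul_add, Matrix.mul_one, Matrix.add_apply]
  congr 1
  by_cases h : c.val = e.2.1
  · have : c = Fin.ofNat 7 e.2.1 := Fin.ext (by simp [h, Nat.mod_eq_of_lt hj])
    rw [if_pos h, ← this, Matrix.mul_single_apply_same]
    simp [dec, Nat.mod_eq_of_lt hi]
  · rw [if_neg h, Matrix.mul_single_apply_of_ne]
    exact fun e' => h (by simp [e', Nat.mod_eq_of_lt hj])

theorem lop_spec {e : El} (hi : e.1 < 7) (hj : e.2.1 < 7) {g : Pk} (hg : OK g) :
    OK (lop e g) ∧ dec (lop e g) = elM e * dec g := by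
  obtain ⟨i, j, s⟩ := e
  set A : Pk := if s then ((((g.1 >>> (7 * j)) &&& 127) <<< (7 * i)), (((g.2 >>> (7 * j)) &&& 127) <<< (7 * i)))
    else ((((g.2 >>> (7 * j)) &&& 127) <<< (7 * i)), (((g.1 >>> (7 * j)) &&& 127) <<< (7 * i))) with hA
  have hlop : lop (i, j, s) g = addB g A := rfl
  have hAok : OK A := by
    intro k
    obtain ⟨r, c, hc, rfl⟩ : ∃ r c, c < 7 ∧ k = 7 * r + c := ⟨k / 7, k % 7, Nat.mod_lt _ (by norm_num), by omega⟩
    have h := hg (7 * j + c)
    cases s <;> simp only [hA, if_true, if_false, Bool.false_eq_true, row_bit _ i j r c hc] <;>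
      revert h <;> cases decide (r = i) <;> cases g.1.testBit (7 * j + c) <;> cases g.2.testBit (7 * j + c) <;> simp
  obtain ⟨h1, h2⟩ := addB_spec hg hAok
  refine ⟨hlop ▸ h1, Matrix.ext fun r c => ?_⟩
  rw [dec_single_left (i, j, s) hi hj, hlop]
  show entry (addB g A) (7 * r.val + c.val) = _
  rw [h2]
  congr 1
  have h := hg (7 * j + c.val)
  unfold entry
  cases s <;> simp only [hA, if_true, if_false, Bool.false_eq_true, row_bit _ i j r.val c.val c.isLt] <;>
    revert h <;> by_cases hr : r.val = i <;> simp [hr] <;>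
    cases g.1.testBit (7 * j + c.val) <;> cases g.2.testBit (7 * j + c.val) <;> simp

theorem rop_spec {e : El} (hi : e.1 < 7) (hj : e.2.1 < 7) {g : Pk} (hg : OK g) :
    OK (rop g e) ∧ dec (rop g e) = dec g * elM e := by
  obtain ⟨i, j, s⟩ := e
  set A : Pk := if s then ((((g.1 >>> i) &&& colMask) <<< j), (((g.2 >>> i) &&& colMask) <<< j))
    else ((((g.2 >>> i) &&& colMask) <<< j), (((g.1 >>> i) &&& colMask) <<< j)) with hA
  have hrop : rop g (i, j, s) = addB g A := rfl
  have hAok : OK A := by
    intro k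
    have hjk : ∀ P : ℕ, (((P >>> i) &&& colMask) <<< j).testBit k =
        (decide (j ≤ k) && (P.testBit (i + (k - j)) && colMask.testBit (k - j))) := fun P => by
      rw [Nat.testBit_shiftLeft, Nat.testBit_and, Nat.testBit_shiftRight]
    have h := hg (i + (k - j))
    cases s <;> simp only [hA, if_true, if_false, Bool.false_eq_true, hjk] <;>
      revert h <;> cases decide (j ≤ k) <;> cases colMask.testBit (k - j) <;> cases g.1.testBit (i + (k - j)) <;>
        cases g.2.testBit (i + (k - j)) <;> simp
  obtain ⟨h1, h2⟩ := addB_spec hg hAok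
  refine ⟨hrop ▸ h1, Matrix.ext fun r c => ?_⟩
  rw [dec_single_right (i, j, s) hi hj, hrop]
  show entry (addB g A) (7 * r.val + c.val) = _
  rw [h2]
  congr 1
  have h := hg (7 * r.val + i)
  unfold entry
  cases s <;> simp only [hA, if_true, if_false, Bool.false_eq_true, col_bit _ i j r.val c.val r.isLt c.isLt hi hj] <;>
    revert h <;> by_cases hc : c.val = j <;> simp [hc] <;>
    cases g.1.testBit (7 * r.val + i) <;> cases g.2.testBit (7 * r.val + i) <;> simp

theorem leftW_spec : ∀ {w : List El}, inRange w = true → ∀ {g : Pk}, OK g →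
    OK (leftW w g) ∧ dec (leftW w g) = wordM w * dec g
  | [], _, g, hg => ⟨hg, by simp [leftW, wordM]⟩
  | e :: w, h, g, hg => by
    simp only [inRange, List.all_cons, Bool.and_eq_true, decide_eq_true_eq] at h
    obtain ⟨h1, h2⟩ := leftW_spec (w := w) h.2 hg
    obtain ⟨h3, h4⟩ := lop_spec h.1.1 h.1.2 h1
    refine ⟨h3, ?_⟩
    show dec (lop e (leftW w g)) = _
    rw [h4, h2]
    simp only [wordM, List.map_cons, List.prod_cons, Matrix.mul_assoc]

theorem rightW_spec : ∀ {w : List El}, inRange w = true → ∀ {g : Pk}, OK g →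
    OK (rightW g w) ∧ dec (rightW g w) = dec g * wordM w
  | [], _, g, hg => ⟨hg, by simp [rightW, wordM]⟩
  | e :: w, h, g, hg => by
    simp only [inRange, List.all_cons, Bool.and_eq_true, decide_eq_true_eq] at h
    obtain ⟨h1, h2⟩ := rop_spec h.1.1 h.1.2 hg
    obtain ⟨h3, h4⟩ := rightW_spec (w := w) h.2 h1
    refine ⟨h3, ?_⟩
    show dec (rightW (rop g e) w) = _
    rw [h4, h2]
    simp only [wordM, List.map_cons, List.prod_cons, Matrix.mul_assoc]

theorem dec_oneP : dec oneP = 1 := by decide +kernel

theorem oneP_ok : OK oneP := fun k h => by simp [oneP] at h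

theorem inRange_append {v w : List El} : inRange (v ++ w) = (inRange v && inRange w) := List.all_append

theorem wordM_append (v w : List El) : wordM (v ++ w) = wordM v * wordM w := by simp [wordM]

theorem dec_word {w : List El} (h : inRange w = true) : dec (rightW oneP w) = wordM w := by
  rw [(rightW_spec h oneP_ok).2, dec_oneP, Matrix.one_mul]

end Cfsg.Lib.OrthSevenThree
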