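import Cfsg.Agent.OrthSevenThree.Sylow

/-!
Seven elements of order three that are pairwise non-conjugate: they are told apart by the fixed vectors of value one
and by the fixed points on 3510 cosets.
-/

set_option autoImplicit false

namespace Cfsg.Lib.OrthSevenThree

open Cfsg.Lib.FiPres Cfsg.Lib.Classical Cfsg.Lib.CosetCert Cfsg.Lib.PermCert
open Matrix

/-- The words of the seven representatives. -/
def repWords : List (List ℕ) :=
  [[3, 4],
    [8, 1, 4, 2, 7, 3, 8, 1, 4, 2, 7, 3, 8, 1, 4, 2, 7, 3, 8, 1, 4, 2, 7, 3],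
    [1, 8, 2, 7],
    [4, 3, 5, 1, 7, 6, 2, 4, 3, 5, 1, 7, 6, 2, 4, 3, 5, 1, 7, 6, 2],
    [2, 4, 7, 6, 5, 8, 3, 2, 4, 7, 6, 5, 8, 3, 2, 4, 7, 6, 5, 8, 3],
    [1, 4, 5, 2],
    [2, 5, 8, 1, 4, 7]]

/-- The word of a representative. -/
def repW (i : Fin 7) : List ℕ := repWords.getD i.val []

/-- The value of the form at a numbered vector. -/
def qNum (j : ℕ) : ℕ :=
  ((j / 3 ^ 0 % 3) ^ 2 + (j / 3 ^ 1 % 3) * (j / 3 ^ 4 % 3) + (j / 3 ^ 2 % 3) * (j / 3 ^ 5 % 3) +
    (j / 3 ^ 3 % 3) * (j / 3 ^ 6 % 3)) % 3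

/-- The tables of a word on the vectors. -/
def vecTabs (i : Fin 7) : List PP := (repW i).map fun l => orthTabs.getD l (0, 0)
/-- The tables of a word on the cosets. -/
def cosTabs (i : Fin 7) : List PP := (repW i).map fun l => sigTabs.getD l (0, 0)

/-- The number of fixed vectors of value one. -/
def cntA (i : Fin 7) : ℕ := ((List.range (3 ^ 7)).filter fun j => qNum j == 1 && evalWord (vecTabs i) j == j).length
/-- The number of fixed cosets. -/
def cntB (i : Fin 7) : ℕ := ((List.range 3510).filter fun j => evalWord (cosTabs i) j == j).length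

theorem counts : List.ofFn (fun i => (cntA i, cntB i)) =
    [(90, 126), (108, 27), (72, 36), (0, 0), (0, 27), (0, 36), (18, 0)] := by decide +kernel

theorem cubes : (List.ofFn fun i => isId (3 ^ 7) (vecTabs i ++ (vecTabs i ++ vecTabs i)) &&
    !isId (3 ^ 7) (vecTabs i) && (repW i).all fun l => decide (1 ≤ l ∧ l < 9)).all id = true := by decide +kernel

theorem counts_injective {i j : Fin 7} (hA : cntA i = cntA j) (hB : cntB i = cntB j) : i = j := by
  have h : ∀ k : Fin 7, [(90, 126), (108, 27), (72, 36), (0, 0), (0, 27), (0, 36), (18, 0)][k.val]? =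
      some (cntA k, cntB k) := fun k => by
    rw [← counts, List.getElem?_ofFn, dif_pos k.isLt]
  have key : ∀ a b : Fin 7, [(90, 126), (108, 27), (72, 36), (0, 0), (0, 27), (0, 36), (18, 0)][a.val]? =
      ([(90, 126), (108, 27), (72, 36), (0, 0), (0, 27), (0, 36), (18, 0)] : List (ℕ × ℕ))[b.val]? → a = b := by
    decide +kernel
  exact key i j (by rw [h, h, hA, hB])

theorem rep_spec (i : Fin 7) : isId (3 ^ 7) (vecTabs i ++ (vecTabs i ++ vecTabs i)) = true ∧
    isId (3 ^ 7) (vecTabs i) = false ∧ ∀ l ∈ repW i, 1 ≤ l ∧ l < 9 := by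
  have h := List.all_eq_true.1 cubes _ (List.mem_ofFn.2 ⟨i, rfl⟩)
  simp only [id_eq, Bool.and_eq_true, Bool.not_eq_true', List.all_eq_true, decide_eq_true_eq] at h
  exact ⟨h.1.1, h.1.2, h.2⟩

/-- The representatives. -/
noncomputable def rep (i : Fin 7) : Om := wval omL (repW i)

set_option maxRecDepth 4000 in
theorem orthPerm_rep (i : Fin 7) : orthPerm (rep i) = wperm (3 ^ 7) (vecTabs i) := by
  rw [rep, map_wval, wval, wperm, vecTabs, List.map_map]
  refine congrArg List.prod (List.map_congr_left fun l hl => ?_)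
  exact orthPerm_omL ⟨l, ((rep_spec i).2.2 l hl).2⟩

theorem vecTabs_valid (i : Fin 7) : ∀ g ∈ vecTabs i, valid (3 ^ 7) g = true := by
  intro g hg
  obtain ⟨l, hl, rfl⟩ := List.mem_map.1 hg
  exact orth_valid ⟨l, ((rep_spec i).2.2 l hl).2⟩

theorem orderOf_rep (i : Fin 7) : orderOf (rep i) = 3 := by
  have : Fact (Nat.Prime 3) := ⟨Nat.prime_three⟩
  refine orderOf_eq_prime (orthPerm_injective ?_) fun h => ?_
  · rw [map_pow, orthPerm_rep, map_one, pow_three]
    have h := isId_sound (w := vecTabs i ++ (vecTabs i ++ vecTabs i)) (fun g hg => by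
      simp only [List.mem_append] at hg
      rcases hg with hg | hg | hg <;> exact vecTabs_valid i g hg) (rep_spec i).1
    rw [← h]
    simp [wperm]
  · have h1 : wperm (3 ^ 7) (vecTabs i) = 1 := by rw [← orthPerm_rep, h, map_one]
    have h2 : isId (3 ^ 7) (vecTabs i) = true := List.all_eq_true.2 fun x hx => by
      have := congrArg (fun p : Equiv.Perm (Fin (3 ^ 7)) => (p ⟨x, List.mem_range.1 hx⟩ : ℕ)) h1
      simp only [wperm_apply (vecTabs_valid i), Equiv.Perm.coe_one, id_eq] at this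
      simpa using this
    rw [(rep_spec i).2.1] at h2
    exact Bool.false_ne_true h2

/-- The inverse of the map from the presented group. -/
noncomputable def omEquiv : P8 ≃* Om := MulEquiv.ofBijective toOm toOm_bijective

/-- The action on 3510 points. -/
noncomputable def cosPerm : Om →* Equiv.Perm (Fin 3510) :=
  psi.comp ((lgp im10 [1, 2, 3, 4, 5, 6, 7, 8]).subtype.comp (toK.comp omEquiv.symm.toMonoidHom))

theorem cosPerm_omL {l : ℕ} (h1 : 1 ≤ l) (h9 : l < 9) : cosPerm (omL l) = perm 3510 (sigTabs.getD l (0, 0)) := by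
  have e : omEquiv.symm (omL l) = im8 l := by
    rw [← toOm_im8 h9]
    exact omEquiv.symm_apply_eq.2 rfl
  show psi ((toK (omEquiv.symm (omL l))).1) = _
  rw [e, im8, toK, PresentedGroup.toGroup.of]
  rw [show ((Fin.ofNat 9 l : Fin 9) : ℕ) = l from Nat.mod_eq_of_lt h9]
  have hm : l ∈ [1, 2, 3, 4, 5, 6, 7, 8] := by simp only [List.mem_cons, List.mem_nil_iff, or_false]; omega
  rw [imK, dif_pos hm]
  exact (psi_act l (show l < 10 by omega)).2

set_option maxRecDepth 4000 in
theorem cosPerm_rep (i : Fin 7) : cosPerm (rep i) = wperm 3510 (cosTabs i) := by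
  rw [rep, map_wval, wval, wperm, cosTabs, List.map_map]
  refine congrArg List.prod (List.map_congr_left fun l hl => ?_)
  exact cosPerm_omL ((rep_spec i).2.2 l hl).1 ((rep_spec i).2.2 l hl).2

/-- The fixed vectors of value one. -/
def fixA (g : Om) : Set (I7 → ZMod 3) := {v | Refl.mat Qf g.1 *ᵥ v = v ∧ Qf v = 1}
/-- The fixed cosets. -/
def fixB (g : Om) : Set (Fin 3510) := {x | cosPerm g x = x}

theorem q_omega (g : Om) (v : I7 → ZMod 3) : Qf (Refl.mat Qf g.1 *ᵥ v) = Qf v := g.1.2 v v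

/-- The action on vectors. -/
noncomputable def act (g : Om) (v : I7 → ZMod 3) : I7 → ZMod 3 := Refl.mat Qf g.1 *ᵥ v

theorem act_mul (a b : Om) (v : I7 → ZMod 3) : act (a * b) v = act a (act b v) := by
  simp only [act, Refl.mat, Subgroup.coe_mul, Units.val_mul, Matrix.mulVec_mulVec]

theorem act_one (v : I7 → ZMod 3) : act 1 v = v := by simp [act, Refl.mat]

theorem fixA_conj (c g : Om) : (fixA (c * g * c⁻¹)).ncard = (fixA g).ncard := by
  have hq : ∀ (a : Om) v, Qf (act a v) = Qf v := q_omega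
  have e : fixA (c * g * c⁻¹) = act c '' fixA g := by
    ext v
    show (act (c * g * c⁻¹) v = v ∧ Qf v = 1) ↔ v ∈ act c '' fixA g
    constructor
    · rintro ⟨h1, h2⟩
      refine ⟨act c⁻¹ v, ⟨?_, ?_⟩, by rw [← act_mul, mul_inv_cancel, act_one]⟩
      · show act g (act c⁻¹ v) = act c⁻¹ v
        nth_rw 2 [← h1]
        rw [← act_mul, ← act_mul]
        congr 1
        group
      · rw [hq, h2]
    · rintro ⟨w, ⟨h1, h2⟩, rfl⟩
      refine ⟨?_, by rw [hq, h2]⟩
      have h1' : act g w = w := h1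
      nth_rw 2 [← h1']
      rw [← act_mul, ← act_mul]
      congr 1
      group
  rw [e, Set.ncard_image_of_injective]
  intro a b h
  have := congrArg (act c⁻¹) h
  rwa [← act_mul, ← act_mul, inv_mul_cancel, act_one, act_one] at this

theorem fixA_inv (g : Om) : fixA g⁻¹ = fixA g := by
  ext v
  show (act g⁻¹ v = v ∧ Qf v = 1) ↔ (act g v = v ∧ Qf v = 1)
  refine and_congr_left' ⟨fun h => ?_, fun h => ?_⟩ <;> nth_rw 1 [← h] <;>
    simp [← act_mul, act_one]

theorem fixB_conj (c g : Om) : (fixB (c * g * c⁻¹)).ncard = (fixB g).ncard := by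
  have e : fixB (c * g * c⁻¹) = cosPerm c '' fixB g := by
    ext x
    simp only [fixB, Set.mem_ofPred_eq, map_mul, map_inv, Equiv.Perm.mul_apply, Equiv.image_eq_preimage_symm,
      Set.mem_preimage, ← Equiv.eq_symm_apply]
    rfl
  rw [e, Set.ncard_image_of_injective _ (cosPerm c).injective]

theorem fixB_inv (g : Om) : fixB g⁻¹ = fixB g := by
  ext x
  simp only [fixB, Set.mem_ofPred_eq, map_inv, Equiv.Perm.inv_def, Equiv.symm_apply_eq]
  exact eq_comm

theorem ncard_filter (n : ℕ) (p : Fin n → Prop) (b : ℕ → Bool) (h : ∀ j : Fin n, p j ↔ b j.val = true) :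
    {j : Fin n | p j}.ncard = ((List.range n).filter b).length := by
  classical
  have e : ((List.range n).filter b).length = ((Finset.range n).filter fun j => b j = true).card := by
    rw [← List.toFinset_card_of_nodup (List.nodup_range.filter b)]
    congr 1
    ext j
    simp
  rw [e, ← Set.ncard_image_of_injective _ Fin.val_injective, ← Set.ncard_coe_finset]
  congr 1
  ext j
  simp only [Set.mem_image, Set.mem_ofPred_eq, Finset.coe_filter, Finset.mem_range]
  constructor
  · rintro ⟨k, hk, rfl⟩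
    exact ⟨k.isLt, (h k).1 hk⟩
  · rintro ⟨h1, h2⟩
    exact ⟨⟨j, h1⟩, (h ⟨j, h1⟩).2 h2, rfl⟩

theorem fixA_rep (i : Fin 7) : (fixA (rep i)).ncard = cntA i := by
  rw [← Set.ncard_image_of_injective _ numV.injective]
  have e : numV '' fixA (rep i) = {j : Fin (3 ^ 7) | orthPerm (rep i) j = j ∧ Qf (numV.symm j) = 1} := by
    ext j
    constructor
    · rintro ⟨v, ⟨h1, h2⟩, rfl⟩
      refine ⟨?_, by rw [Equiv.symm_apply_apply, h2]⟩
      show numV (Refl.mat Qf (rep i).1 *ᵥ numV.symm (numV v)) = numV v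
      rw [Equiv.symm_apply_apply, h1]
    · rintro ⟨h1, h2⟩
      refine ⟨numV.symm j, ⟨?_, h2⟩, numV.apply_symm_apply j⟩
      have h1' : numV (Refl.mat Qf (rep i).1 *ᵥ numV.symm j) = j := h1
      exact numV.eq_symm_apply.2 h1'
  rw [e, cntA]
  refine ncard_filter _ _ _ fun j => ?_
  rw [orthPerm_rep, Fin.ext_iff, wperm_apply (vecTabs_valid i)]
  have hq : Qf (numV.symm j) = ((qNum j.val : ℕ) : ZMod 3) := by
    rw [Qf_coe]
    have d : ∀ l : Fin 7, numV.symm j (coordI l) = (((j : ℕ) / 3 ^ (l : ℕ) % 3 : ℕ) : ZMod 3) := numV_symm j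
    simp only [Cfsg.quadFormOdd, Fin.sum_univ_three]
    rw [show numV.symm j (Sum.inl ()) = _ from d 0, show numV.symm j (Sum.inr (Sum.inl 0)) = _ from d 1,
      show numV.symm j (Sum.inr (Sum.inl 1)) = _ from d 2, show numV.symm j (Sum.inr (Sum.inl 2)) = _ from d 3,
      show numV.symm j (Sum.inr (Sum.inr 0)) = _ from d 4, show numV.symm j (Sum.inr (Sum.inr 1)) = _ from d 5,
      show numV.symm j (Sum.inr (Sum.inr 2)) = _ from d 6, qNum, ZMod.natCast_mod]
    push_cast
    simp [add_assoc]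
  rw [hq, Bool.and_eq_true, beq_iff_eq, beq_iff_eq]
  have hlt : qNum j.val < 3 := Nat.mod_lt _ (by norm_num)
  have : ∀ a : Fin 3, ((a.val : ℕ) : ZMod 3) = 1 ↔ a.val = 1 := by decide
  rw [this ⟨qNum j.val, hlt⟩, and_comm]

theorem fixB_rep (i : Fin 7) : (fixB (rep i)).ncard = cntB i := by
  have hv : ∀ g ∈ cosTabs i, valid 3510 g = true := fun g hg => by
    obtain ⟨l, hl, rfl⟩ := List.mem_map.1 hg
    exact (psi_act l (show l < 10 by have := ((rep_spec i).2.2 l hl).2; omega)).1
  rw [fixB, cntB]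
  refine ncard_filter _ _ _ fun j => ?_
  rw [cosPerm_rep, Fin.ext_iff, wperm_apply hv, beq_iff_eq]

theorem rep_conj {i j : Fin 7} {c : Om} (h : c * rep i * c⁻¹ ∈ Subgroup.zpowers (rep j)) : i = j := by
  have h3 := orderOf_rep j
  have hne : c * rep i * c⁻¹ ≠ 1 := fun e => by
    have e' : rep i = 1 := by simpa using e
    have := orderOf_rep i
    rw [e', orderOf_one] at this
    omega
  obtain ⟨n', he'⟩ := (isOfFinOrder_iff_pow_eq_one.2 ⟨orderOf (rep j), by rw [h3]; norm_num,
    pow_orderOf_eq_one _⟩).mem_powers_iff_mem_zpowers.2 h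
  obtain ⟨n, hn, he⟩ : ∃ n < 3, rep j ^ n = c * rep i * c⁻¹ :=
    ⟨n' % 3, Nat.mod_lt _ (by norm_num), ((congrArg (fun m => rep j ^ (n' % m)) h3).symm.trans (pow_mod_orderOf _ _)).trans he'⟩
  have hcase : c * rep i * c⁻¹ = rep j ∨ c * rep i * c⁻¹ = (rep j)⁻¹ := by
    interval_cases n
    · exact absurd (by rw [← he, pow_zero]) hne
    · exact Or.inl (by rw [← he, pow_one])
    · refine Or.inr (he.symm.trans ?_)
      rw [eq_inv_iff_mul_eq_one, ← pow_succ, show 2 + 1 = orderOf (rep j) by rw [h3], pow_orderOf_eq_one]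
  refine counts_injective ?_ ?_
  · rw [← fixA_rep, ← fixA_rep, ← fixA_conj c (rep i)]
    rcases hcase with e | e <;> rw [e]
    rw [fixA_inv]
  · rw [← fixB_rep, ← fixB_rep, ← fixB_conj c (rep i)]
    rcases hcase with e | e <;> rw [e]
    rw [fixB_inv]

/-- Seven classes of subgroups of order three. -/
theorem seven_classes : ∀ x : Om, orderOf x = 3 → ∃ i, ∃ c : Om, x = c * rep i * c⁻¹ := by
  intro x hx
  have hex : ∀ i, ∃ r : Fin 7, ∃ h c : Om, mat7 h = dec (pairT (threeIdx.getD r.val 0)) ∧ rep i = c * h * c⁻¹ := by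
    intro i
    obtain ⟨r, hr, h, c, hh, hc⟩ := exists_conj_three (orderOf_rep i)
    obtain ⟨k, hk, rfl⟩ := List.getElem_of_mem hr
    exact ⟨⟨k, hk⟩, h, c, by rw [List.getD_eq_getElem _ _ hk]; exact hh, hc⟩
  choose f h c hh hc using hex
  have hinj : Function.Injective f := fun i j e => by
    have e' : h i = h j := mat7_injective (by rw [hh, hh, e])
    refine rep_conj (c := c j * (c i)⁻¹) ?_
    have : c j * (c i)⁻¹ * rep i * (c j * (c i)⁻¹)⁻¹ = rep j := by
      rw [hc i, hc j, e']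
      group
    rw [this]
    exact Subgroup.mem_zpowers _
  obtain ⟨r, hr, y, d, hy, hd⟩ := exists_conj_three hx
  obtain ⟨k, hk, rfl⟩ := List.getElem_of_mem hr
  obtain ⟨i, hi⟩ := (Finite.injective_iff_surjective.1 hinj) (⟨k, hk⟩ : Fin 7)
  refine ⟨i, d * (c i)⁻¹, ?_⟩
  have e : h i = y := mat7_injective (by rw [hh, hy, hi]; exact congrArg (fun n => dec (pairT n)) (List.getD_eq_getElem _ _ hk))
  rw [hc i, e, hd]
  group

end Cfsg.Lib.OrthSevenThree
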