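import Cfsg.Agent.OrthSevenThree.Table

/-!
The conditions, part 2.
-/

set_option autoImplicit false

namespace Cfsg.Lib.OrthSevenThree

theorem range2_ok : rangeOK 8000 4000 = true := by decide +kernel

end Cfsg.Lib.OrthSevenThree
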