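import Cfsg.Agent.OrthSevenThree.Part0
import Cfsg.Agent.OrthSevenThree.Part1
import Cfsg.Agent.OrthSevenThree.Part2
import Cfsg.Agent.OrthSevenThree.Part3
import Cfsg.Agent.OrthSevenThree.Part4
import Cfsg.Agent.FiPres.OrthImage

/-!
The table is a Sylow three-subgroup of the orthogonal group, and every element of order three is conjugate to one of
seven of its entries.
-/

set_option autoImplicit false

namespace Cfsg.Lib.OrthSevenThree

open Cfsg.Lib.FiPres Cfsg.Lib.Classical
open Matrix

/-- The orthogonal group in question. -/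
abbrev Om := ↥(Cfsg.Omega (ZMod 3) (⇑Qf))

theorem entryOK_all {i : ℕ} (h : i < 19683) : entryOK i = true := by
  rcases Nat.lt_or_ge i 4000 with h1 | h1
  · exact rangeOK_spec range0_ok (by omega) (by omega)
  rcases Nat.lt_or_ge i 8000 with h2 | h2
  · exact rangeOK_spec range1_ok (by omega) (by omega)
  rcases Nat.lt_or_ge i 12000 with h3 | h3
  · exact rangeOK_spec range2_ok (by omega) (by omega)
  rcases Nat.lt_or_ge i 16000 with h4 | h4
  · exact rangeOK_spec range3_ok (by omega) (by omega)
  · exact rangeOK_spec range4_ok (by omega) (by omega)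

/-- The matrix of an element on numbered coordinates. -/
noncomputable def mat7 : Om →* Matrix (Fin 7) (Fin 7) (ZMod 3) where
  toFun g := (Refl.mat Qf g.1).submatrix coordI coordI
  map_one' := by
    ext i j
    simp only [OneMemClass.coe_one, Refl.mat, Units.val_one, submatrix_apply, Matrix.one_apply]
    exact if_congr eqvI.symm.injective.eq_iff rfl rfl
  map_mul' g h := by
    show ((g.1.1.1 * h.1.1.1 : Matrix I7 I7 (ZMod 3))).submatrix coordI coordI = _
    exact (Matrix.submatrix_mul_equiv g.1.1.1 h.1.1.1 coordI eqvI.symm coordI).symm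

theorem mat7_injective : Function.Injective mat7 := by
  intro g h e
  refine Subtype.ext (Subtype.ext (Units.ext (Matrix.ext fun i j => ?_)))
  have e' := congrFun (congrFun e (numI i)) (numI j)
  have hi : coordI (numI i) = i := eqvI.symm_apply_apply i
  have hj : coordI (numI j) = j := eqvI.symm_apply_apply j
  simpa [mat7, Refl.mat, hi, hj] using e'

/-- The Gram matrix of the polar form on numbered coordinates. -/
def gram : Matrix (Fin 7) (Fin 7) (ZMod 3) :=
  Matrix.of fun i j => if i = j ∧ i = 0 then 2 else if (i.val + 3 = j.val ∧ 1 ≤ i.val) ∨ (j.val + 3 = i.val ∧ 1 ≤ j.val) then 1 else 0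

theorem q_gram (v : I7 → ZMod 3) : Qf v = 2 * ((v ∘ coordI) ⬝ᵥ gram *ᵥ (v ∘ coordI)) := by
  rw [Qf_coe]
  simp [Cfsg.quadFormOdd, dotProduct, Matrix.mulVec, gram, Fin.sum_univ_seven, Fin.sum_univ_three, coordI]
  ring_nf
  simp only [show (4 : ZMod 3) = 1 by decide, mul_one]

/-- The checks on the root elements. -/
def rootOK (k : ℕ) : Bool :=
  inRange (rootW k) && (rightW oneP (rootW k ++ (rootW k ++ rootW k)) == oneP) &&
    decide ((dec (rightW oneP (rootW k)))ᵀ * gram * dec (rightW oneP (rootW k)) = gram)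

theorem root_checks : (List.range 36).all rootOK = true := by decide +kernel

theorem root_spec {k : ℕ} (hk : k < 36) : inRange (rootW k) = true ∧
    wordM (rootW k) * (wordM (rootW k) * wordM (rootW k)) = 1 ∧
    (wordM (rootW k))ᵀ * gram * wordM (rootW k) = gram := by
  have h := List.all_eq_true.1 root_checks k (List.mem_range.2 hk)
  simp only [rootOK, Bool.and_eq_true, beq_iff_eq, decide_eq_true_eq] at h
  obtain ⟨⟨hr, h3⟩, hg⟩ := h
  refine ⟨hr, ?_, by rwa [dec_word hr] at hg⟩
  rw [← wordM_append, ← wordM_append, ← dec_word (by rw [inRange_append, inRange_append, hr]; rfl), h3, dec_oneP]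

theorem mem_omega_of_cube {g : Cfsg.isometryGroup (ZMod 3) (⇑Qf)} (h : g ^ 3 = 1) :
    g ∈ Cfsg.Omega (ZMod 3) (⇑Qf) := by
  have hn : 2 ≤ Fintype.card I7 := by simp
  rw [Refl.mem_omega_iff Qf two_ne nondeg hn]
  have h1 : ∀ u : (ZMod 3)ˣ, u ^ 3 = 1 → u = 1 := by decide +kernel
  have h2 : ∀ u : ℤˣ, u ^ 3 = 1 → u = 1 := fun u hu => by
    rcases Int.units_eq_one_or u with e | e
    · exact e
    · rw [e] at hu; exact absurd hu (by decide)
  exact ⟨h1 _ (by rw [← map_pow, h, map_one]), h2 _ (by rw [← map_pow, h, map_one])⟩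

theorem exists_root {k : ℕ} (hk : k < 36) : ∃ g : Om, mat7 g = wordM (rootW k) := by
  obtain ⟨-, h3, hg⟩ := root_spec hk
  let f : Matrix (Fin 7) (Fin 7) (ZMod 3) → Matrix I7 I7 (ZMod 3) := fun M => M.submatrix numI numI
  have f1 : f 1 = 1 := by
    ext i j
    simp only [f, submatrix_apply, Matrix.one_apply]
    exact if_congr eqvI.injective.eq_iff rfl rfl
  have fm : ∀ M N, f (M * N) = f M * f N := fun M N => (Matrix.submatrix_mul_equiv M N numI eqvI numI).symm
  let u : Matrix.GeneralLinearGroup I7 (ZMod 3) :=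
    ⟨f (wordM (rootW k)), f (wordM (rootW k) * wordM (rootW k)), by rw [← fm, h3, f1],
      by rw [← fm, Matrix.mul_assoc, h3, f1]⟩
  have hu : u ∈ Cfsg.isometryGroup (ZMod 3) (⇑Qf) := by
    intro v _
    show Qf (f (wordM (rootW k)) *ᵥ v) = Qf v
    have e : (f (wordM (rootW k)) *ᵥ v) ∘ coordI = wordM (rootW k) *ᵥ (v ∘ coordI) := by
      funext i
      simp only [Function.comp_apply, Matrix.mulVec, dotProduct, f, submatrix_apply]
      rw [← eqvI.symm.sum_comp]
      refine Finset.sum_congr rfl fun j _ => ?_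
      rw [show numI (coordI i) = i from eqvI.apply_symm_apply i, show eqvI.symm j = coordI j from rfl,
        show numI (coordI j) = j from eqvI.apply_symm_apply j]
    rw [q_gram, q_gram, e, Matrix.mulVec_mulVec, Matrix.dotProduct_mulVec, ← Matrix.vecMul_transpose (wordM (rootW k)),
      Matrix.vecMul_vecMul, ← Matrix.mul_assoc, hg, ← Matrix.dotProduct_mulVec]
  have hc : (⟨u, hu⟩ : Cfsg.isometryGroup (ZMod 3) (⇑Qf)) ^ 3 = 1 := by
    refine Subtype.ext (Units.ext ?_)
    show ((u ^ 3 : Matrix.GeneralLinearGroup I7 (ZMod 3)) : Matrix I7 I7 (ZMod 3)) = 1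
    rw [Units.val_pow_eq_pow_val, pow_succ', pow_two]
    show f _ * (f _ * f _) = 1
    rw [← fm, ← fm, h3, f1]
  refine ⟨⟨⟨u, hu⟩, mem_omega_of_cube hc⟩, Matrix.ext fun i j => ?_⟩
  show f (wordM (rootW k)) (coordI i) (coordI j) = _
  simp only [f, submatrix_apply]
  rw [show numI (coordI i) = i from eqvI.apply_symm_apply i, show numI (coordI j) = j from eqvI.apply_symm_apply j]

theorem exists_letters : ∀ {w : List ℕ}, (w.all fun k => decide (k < 36)) = true →
    inRange (letW w) = true ∧ ∃ g : Om, mat7 g = wordM (letW w)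
  | [], _ => ⟨rfl, 1, by simp [letW, wordM]⟩
  | k :: w, h => by
    simp only [List.all_cons, Bool.and_eq_true, decide_eq_true_eq] at h
    obtain ⟨hr, g, hg⟩ := exists_letters (w := w) (by simpa using h.2)
    obtain ⟨a, ha⟩ := exists_root h.1
    refine ⟨?_, a * g, ?_⟩
    · rw [letW, List.flatMap_cons, inRange_append, (root_spec h.1).1]
      simpa [letW] using hr
    · rw [map_mul, ha, hg, letW, letW, List.flatMap_cons, wordM_append]

theorem conj_letters : conjWords.all (fun w => w.all fun k => decide (k < 36)) = true := by decide +kernel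

theorem exists_conjugator {c : ℕ} (hc : c < conjWords.length) :
    inRange (conW c) = true ∧ ∃ g : Om, mat7 g = wordM (conW c) := by
  refine exists_letters ?_
  rw [List.getD_eq_getElem _ _ hc]
  exact List.all_eq_true.1 conj_letters _ (List.getElem_mem hc)

/-- The rank of a coordinate in the triangular order. -/
def rk : Fin 7 → ℕ := ![3, 0, 1, 2, 6, 5, 4]

/-- Unitriangular matrices. -/
def Tri (M : Matrix (Fin 7) (Fin 7) (ZMod 3)) : Prop :=
  ∀ i j, rk j ≤ rk i → M i j = (1 : Matrix (Fin 7) (Fin 7) (ZMod 3)) i j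

instance triDecidable (M : Matrix (Fin 7) (Fin 7) (ZMod 3)) : Decidable (Tri M) :=
  decidable_of_iff (∀ i j : Fin 7, rk j ≤ rk i → Matrix.of.symm M i j = (if i = j then 1 else 0))
    (by simp [Tri, Matrix.one_apply])

theorem Tri.mul {M N : Matrix (Fin 7) (Fin 7) (ZMod 3)} (hM : Tri M) (hN : Tri N) : Tri (M * N) := by
  intro i j hij
  have hrk : Function.Injective rk := by decide
  rw [Matrix.mul_apply, Finset.sum_eq_single i]
  · rw [hM i i le_rfl, Matrix.one_apply_eq, one_mul, hN i j hij]
  · intro k _ hk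
    rcases Nat.lt_or_ge (rk k) (rk i) with h | h
    · rw [hM i k h.le, Matrix.one_apply_ne (Ne.symm hk), zero_mul]
    · have hlt : rk j < rk k := by
        rcases Nat.lt_or_ge (rk j) (rk k) with h' | h'
        · exact h'
        · exact absurd (hrk (by omega)) hk
      rw [hN k j hlt.le, Matrix.one_apply_ne (fun e => by rw [e] at hlt; exact lt_irrefl _ hlt), mul_zero]
  · exact fun h => absurd (Finset.mem_univ i) h

theorem Tri.pow_nine {M : Matrix (Fin 7) (Fin 7) (ZMod 3)} (h : Tri M) : M ^ 9 = 1 := by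
  set N := M - 1 with hN
  have key : ∀ k i j, rk j < rk i + k → (N ^ k) i j = 0 := by
    intro k
    induction k with
    | zero =>
      intro i j hij
      rw [pow_zero, Matrix.one_apply_ne]
      rintro rfl
      omega
    | succ k ih =>
      intro i j hij
      rw [pow_succ, Matrix.mul_apply]
      refine Finset.sum_eq_zero fun l _ => ?_
      rcases Nat.lt_or_ge (rk l) (rk i + k) with h' | h'
      · rw [ih i l h', zero_mul]
      · rw [hN, Matrix.sub_apply, h l j (by omega), sub_self, mul_zero]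
  have h9 : N ^ 9 = 0 := Matrix.ext fun i j => key 9 i j (by
    have : ∀ j, rk j ≤ 6 := by decide
    have := this j
    omega)
  have : Fact (Nat.Prime 3) := ⟨Nat.prime_three⟩
  have e : M = N + 1 := by rw [hN, sub_add_cancel]
  rw [e, show (9 : ℕ) = 3 ^ 2 by norm_num, add_pow_char_pow_of_commute 3 2 (Commute.one_right N),
    show (3 : ℕ) ^ 2 = 9 by norm_num, h9, one_pow, zero_add]

theorem mat7_pow_nine {g : Om} (h : Tri (mat7 g)) : g ^ 9 = 1 :=
  mat7_injective (by rw [map_pow, Tri.pow_nine h, map_one])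

/-- The unitriangular subgroup. -/
noncomputable def triSub : Subgroup Om where
  carrier := {g | Tri (mat7 g)}
  one_mem' := fun i j _ => by rw [map_one]
  mul_mem' := fun {a b} ha hb => by
    show Tri (mat7 (a * b))
    rw [map_mul]
    exact ha.mul hb
  inv_mem' := fun {a} ha => by
    show Tri (mat7 a⁻¹)
    have hpow : ∀ n : ℕ, Tri (mat7 (a ^ n)) := fun n => by
      induction n with
      | zero => intro i j _; rw [pow_zero, map_one]
      | succ n ih => rw [pow_succ, map_mul]; exact ih.mul ha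
    rw [inv_eq_of_mul_eq_one_right (show a * a ^ 8 = 1 by rw [← pow_succ']; exact mat7_pow_nine ha)]
    exact hpow 8

theorem mem_triSub {g : Om} : g ∈ triSub ↔ Tri (mat7 g) := Iff.rfl

theorem gen_tri : ((List.range 9).all fun k => decide (Tri (dec (rightW oneP (rootW k))))) = true := by decide +kernel

theorem isPGroup_triSub : IsPGroup 3 triSub :=
  fun g => ⟨2, Subtype.ext (by rw [SubmonoidClass.coe_pow]; exact mat7_pow_nine g.2)⟩

/-- The entries are elements of the unitriangular subgroup. -/
theorem exists_entry : ∀ d i : ℕ, i < 19683 → upDep i ≤ d →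
    OK (pairT i) ∧ ∃ g ∈ triSub, mat7 g = dec (pairT i) := by
  intro d
  induction d using Nat.strong_induction_on with
  | _ d ih =>
    intro i hi hd
    have h := entryOK_all hi
    simp only [entryOK, Bool.and_eq_true] at h
    have hu := h.1.1
    unfold upOK at hu
    split at hu
    · rename_i hg
      simp only [Bool.and_eq_true, decide_eq_true_eq, beq_iff_eq] at hu
      obtain ⟨⟨hp, hlt⟩, he⟩ := hu
      obtain ⟨hok, g, hgT, hgm⟩ := ih (upDep (upPar i)) (by omega) (upPar i) hp le_rfl
      obtain ⟨a, ha⟩ := exists_root (show upGen i < 36 by omega)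
      have hr := (root_spec (show upGen i < 36 by omega)).1
      obtain ⟨h1, h2⟩ := rightW_spec hr hok
      rw [he] at h1 h2
      refine ⟨h1, g * a, triSub.mul_mem hgT ?_, by rw [map_mul, hgm, ha, h2]⟩
      rw [mem_triSub, ha, ← dec_word hr]
      exact decide_eq_true_eq.mp (List.all_eq_true.1 gen_tri _ (List.mem_range.2 hg))
    · rw [beq_iff_eq] at hu
      rw [hu]
      exact ⟨oneP_ok, 1, triSub.one_mem, by rw [map_one, dec_oneP]⟩

theorem entry_spec {i : ℕ} (h : i < 19683) : OK (pairT i) ∧ ∃ g ∈ triSub, mat7 g = dec (pairT i) :=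
  exists_entry _ i h le_rfl

theorem codeT_mono : ∀ {i j : ℕ}, i < j → j < 19683 → codeT i < codeT j := by
  intro i j hij hj
  induction j with
  | zero => omega
  | succ j ih =>
    have h := entryOK_all (show j < 19683 by omega)
    simp only [entryOK, Bool.and_eq_true, Bool.or_eq_true, decide_eq_true_eq] at h
    have hlt : codeT j < codeT (j + 1) := h.2.resolve_left (by omega)
    rcases Nat.lt_or_ge i j with h' | h'
    · exact (ih h' (by omega)).trans hlt
    · obtain rfl : i = j := by omega
      exact hlt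

theorem codeT_of_dec {i j : ℕ} (hi : i < 19683) (hj : j < 19683) (h : dec (pairT i) = dec (pairT j)) :
    codeT i = codeT j := by
  have hb : ∀ k < 49, (pairT i).1.testBit k = (pairT j).1.testBit k ∧ (pairT i).2.testBit k = (pairT j).2.testBit k := by
    intro k hk
    have e := congrFun (congrFun h ⟨k / 7, by omega⟩) ⟨k % 7, Nat.mod_lt _ (by norm_num)⟩
    simp only [dec, Matrix.of_apply, Nat.div_add_mod] at e
    have h1 := (entry_spec hi).1 k
    have h2 := (entry_spec hj).1 k
    revert e h1 h2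
    unfold entry
    cases (pairT i).1.testBit k <;> cases (pairT i).2.testBit k <;> cases (pairT j).1.testBit k <;>
      cases (pairT j).2.testBit k <;> decide
  have hsmall : ∀ (x : ℕ) (k : ℕ), 49 ≤ k → (x % 2 ^ 49).testBit k = false := fun x k hk =>
    Nat.testBit_eq_false_of_lt (lt_of_lt_of_le (Nat.mod_lt _ (by norm_num)) (Nat.pow_le_pow_right (by norm_num) hk))
  have e1 : (pairT i).1 = (pairT j).1 := Nat.eq_of_testBit_eq fun k => by
    rcases Nat.lt_or_ge k 49 with hk | hk
    · exact (hb k hk).1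
    · rw [show (pairT i).1 = recT i % 2 ^ 49 from rfl, show (pairT j).1 = recT j % 2 ^ 49 from rfl, hsmall _ k hk,
        hsmall _ k hk]
  have e2 : (pairT i).2 = (pairT j).2 := Nat.eq_of_testBit_eq fun k => by
    rcases Nat.lt_or_ge k 49 with hk | hk
    · exact (hb k hk).2
    · rw [show (pairT i).2 = (recT i >>> 49) % 2 ^ 49 from rfl, show (pairT j).2 = (recT j >>> 49) % 2 ^ 49 from rfl,
        hsmall _ k hk, hsmall _ k hk]
  have e : ∀ n, codeT n = (pairT n).1 + 2 ^ 49 * (pairT n).2 := fun n => by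
    simp only [codeT, pairT, Nat.shiftRight_eq_div_pow]
    rw [show (2 : ℕ) ^ 98 = 2 ^ 49 * 2 ^ 49 by norm_num, Nat.mod_mul]
  rw [e, e, e1, e2]

theorem triSub_eq : Nat.card triSub = 19683 ∧ ∀ g ∈ triSub, ∃ i < 19683, mat7 g = dec (pairT i) := by
  have : Finite Om := Nat.finite_of_card_ne_zero (by rw [card_omega7.1]; norm_num)
  have hex : ∀ i : Fin 19683, ∃ g : triSub, mat7 g = dec (pairT i) := fun i => by
    obtain ⟨-, g, hg, he⟩ := entry_spec i.isLt
    exact ⟨⟨g, hg⟩, he⟩
  choose f hf using hex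
  have hinj : Function.Injective f := fun i j e => by
    have hc := codeT_of_dec i.isLt j.isLt (by rw [← hf, ← hf, e])
    rcases Nat.lt_trichotomy i.val j.val with h | h | h
    · exact absurd hc (Nat.ne_of_lt (codeT_mono h j.isLt))
    · exact Fin.ext h
    · exact absurd hc.symm (Nat.ne_of_lt (codeT_mono h i.isLt))
  have hle := Nat.card_le_card_of_injective f hinj
  rw [Nat.card_fin] at hle
  have : Fact (Nat.Prime 3) := ⟨Nat.prime_three⟩
  obtain ⟨n, hn⟩ := isPGroup_triSub.exists_card_eq
  have hd : 3 ^ n ∣ 4585351680 := hn ▸ card_omega7.1 ▸ Subgroup.card_subgroup_dvd_card triSub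
  have hn9 : n ≤ 9 := by
    by_contra h
    have h10 : 3 ^ 10 ∣ 4585351680 := (pow_dvd_pow 3 (by omega : 10 ≤ n)).trans hd
    omega
  have hcard : Nat.card triSub = 19683 := by
    have h3 : (3 : ℕ) ^ n ≤ 3 ^ 9 := Nat.pow_le_pow_right (by norm_num) hn9
    omega
  refine ⟨hcard, fun g hg => ?_⟩
  have hb : Function.Bijective f := (Nat.bijective_iff_injective_and_card f).2 ⟨hinj, by rw [Nat.card_fin, hcard]⟩
  obtain ⟨i, hi⟩ := hb.2 ⟨g, hg⟩
  exact ⟨i, i.isLt, by rw [← hf, hi]⟩

theorem root_or : rootIdx.all (fun r => decide (r < 19683) && (threeIdx.contains r ||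
    (rightW oneP [] == pairT r) || decide (dec (pairT r) * (dec (pairT r) * dec (pairT r)) ≠ 1))) = true := by
  decide +kernel

theorem three_lt : threeIdx.all (fun r => decide (r < 19683)) = true := by decide +kernel

/-- Every entry is conjugate to a root. -/
theorem exists_forest : ∀ d i : ℕ, i < 19683 → fDep i ≤ d → ∀ g : Om, mat7 g = dec (pairT i) →
    ∃ r ∈ rootIdx, ∃ h c : Om, mat7 h = dec (pairT r) ∧ g = c * h * c⁻¹ := by
  intro d
  induction d using Nat.strong_induction_on with
  | _ d ih =>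
    intro i hi hd g hg
    have h := entryOK_all hi
    simp only [entryOK, Bool.and_eq_true] at h
    have hu := h.1.2
    unfold forOK at hu
    split at hu
    · rename_i hc
      simp only [Bool.and_eq_true, decide_eq_true_eq, beq_iff_eq] at hu
      obtain ⟨⟨hp, hlt⟩, he⟩ := hu
      obtain ⟨hokp, gp, -, hgp⟩ := entry_spec hp
      obtain ⟨r, hr, y, c, hy, hgc⟩ := ih (fDep (fPar i)) (by omega) (fPar i) hp le_rfl gp hgp
      obtain ⟨hr', a, ha⟩ := exists_conjugator hc
      have e : a * gp = g * a := mat7_injective (by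
        rw [map_mul, map_mul, ha, hg, hgp, ← (leftW_spec hr' hokp).2, he, (rightW_spec hr' (entry_spec hi).1).2])
      refine ⟨r, hr, y, a * c, hy, ?_⟩
      rw [eq_mul_inv_of_mul_eq e.symm, hgc]
      group
    · exact ⟨i, List.contains_iff_mem.1 hu, g, 1, hg, by simp⟩

/-- Every element of order three is conjugate to one of seven entries. -/
theorem exists_conj_three {x : Om} (hx : orderOf x = 3) :
    ∃ r ∈ threeIdx, ∃ h c : Om, mat7 h = dec (pairT r) ∧ x = c * h * c⁻¹ := by
  have : Finite Om := Nat.finite_of_card_ne_zero (by rw [card_omega7.1]; norm_num)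
  have : Fact (Nat.Prime 3) := ⟨Nat.prime_three⟩
  obtain ⟨S, hS⟩ := isPGroup_triSub.exists_le_sylow
  have hSc : Nat.card ↥(S : Subgroup Om) ≤ 19683 := by
    obtain ⟨n, hn⟩ := S.2.exists_card_eq
    have hd : 3 ^ n ∣ 4585351680 := hn ▸ card_omega7.1 ▸ Subgroup.card_subgroup_dvd_card (S : Subgroup Om)
    have hn9 : n ≤ 9 := by
      by_contra h
      have h10 : 3 ^ 10 ∣ 4585351680 := (pow_dvd_pow 3 (by omega : 10 ≤ n)).trans hd
      omega
    rw [hn]
    exact (Nat.pow_le_pow_right (by norm_num) hn9).trans (by norm_num)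
  have hSe : triSub = (S : Subgroup Om) := Subgroup.eq_of_le_of_card_ge hS (hSc.trans triSub_eq.1.ge)
  obtain ⟨P, hP⟩ : ∃ P : Sylow 3 Om, Subgroup.zpowers x ≤ (P : Subgroup Om) :=
    IsPGroup.exists_le_sylow (IsPGroup.of_card (p := 3) (n := 1) (by rw [Nat.card_zpowers, hx, pow_one]))
  obtain ⟨a, ha⟩ := MulAction.exists_smul_eq Om S P
  have hxP : x ∈ (P : Subgroup Om) := hP (Subgroup.mem_zpowers x)
  rw [← ha] at hxP
  have hmem : a⁻¹ * x * a ∈ triSub := by
    rw [hSe]
    have := Subgroup.mem_pointwise_smul_iff_inv_smul_mem.1 hxP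
    rwa [← map_inv, MulAut.smul_def, MulAut.conj_apply, inv_inv] at this
  obtain ⟨i, hi, he⟩ := triSub_eq.2 _ hmem
  obtain ⟨r, hr, y, c, hy, hyc⟩ := exists_forest _ i hi le_rfl _ he
  have hxy : x = (a * c) * y * (a * c)⁻¹ := by
    calc x = a * (a⁻¹ * x * a) * a⁻¹ := by group
      _ = a * (c * y * c⁻¹) * a⁻¹ := by rw [hyc]
      _ = (a * c) * y * (a * c)⁻¹ := by group
  refine ⟨r, ?_, y, a * c, hy, hxy⟩
  have hy3 : orderOf y = 3 := by
    rw [hxy, ← MulAut.conj_apply, ← MulEquiv.coe_toMonoidHom, orderOf_injective _ (MulAut.conj _).injective] at hx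
    exact hx
  have h := List.all_eq_true.1 root_or r hr
  simp only [Bool.and_eq_true, Bool.or_eq_true, decide_eq_true_eq, beq_iff_eq, List.contains_iff_mem] at h
  rcases h.2 with (h' | h') | h'
  · exact h'
  · exfalso
    have : y = 1 := mat7_injective (by rw [hy, ← h', map_one]; exact dec_oneP)
    rw [this, orderOf_one] at hy3
    omega
  · refine absurd ?_ h'
    have h3 : y * (y * y) = 1 := by
      rw [← pow_two, ← pow_succ']
      exact (congrArg (fun n => y ^ n) (hy3.symm : 2 + 1 = orderOf y)).trans (pow_orderOf_eq_one y)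
    rw [← hy, ← map_mul, ← map_mul, h3, map_one]

end Cfsg.Lib.OrthSevenThree
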