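import Cfsg.Agent.OrthSevenThree.Data

/-!
The conditions on the entries of the table.
-/

set_option autoImplicit false

namespace Cfsg.Lib.OrthSevenThree

open Cfsg.Lib.CosetCert

/-- A record of the table. -/
def recT (i : ℕ) : ℕ := lookup table 7 160 i
/-- The packed matrix. -/
def pairT (i : ℕ) : Pk := (recT i % 2 ^ 49, (recT i >>> 49) % 2 ^ 49)
/-- The code. -/
def codeT (i : ℕ) : ℕ := recT i % 2 ^ 98
/-- The parent among products of generators. -/
def upPar (i : ℕ) : ℕ := (recT i >>> 98) % 2 ^ 15
/-- The generator. -/
def upGen (i : ℕ) : ℕ := (recT i >>> 113) % 2 ^ 4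
/-- The depth among products. -/
def upDep (i : ℕ) : ℕ := (recT i >>> 117) % 2 ^ 6
/-- The parent in the forest of conjugations. -/
def fPar (i : ℕ) : ℕ := (recT i >>> 123) % 2 ^ 15
/-- The conjugator. -/
def fCon (i : ℕ) : ℕ := (recT i >>> 138) % 2 ^ 6
/-- The depth in the forest. -/
def fDep (i : ℕ) : ℕ := (recT i >>> 144) % 2 ^ 8

/-- The elementary factors of a root element. -/
def rootW (k : ℕ) : List El := rootFac.getD k []
/-- The elementary factors of a word in the root elements. -/
def letW (w : List ℕ) : List El := w.flatMap rootW
/-- The elementary factors of a conjugator. -/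
def conW (c : ℕ) : List El := letW (conjWords.getD c [])

/-- An entry is a product of generators. -/
def upOK (i : ℕ) : Bool :=
  if upGen i < 9 then
    decide (upPar i < 19683) && decide (upDep (upPar i) < upDep i) && (rightW (pairT (upPar i)) (rootW (upGen i)) == pairT i)
  else pairT i == oneP

/-- An entry is a root or conjugate to a shallower one. -/
def forOK (i : ℕ) : Bool :=
  if fCon i < conjWords.length then
    decide (fPar i < 19683) && decide (fDep (fPar i) < fDep i) &&
      (leftW (conW (fCon i)) (pairT (fPar i)) == rightW (pairT i) (conW (fCon i)))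
  else rootIdx.contains i

/-- All conditions at an entry. -/
def entryOK (i : ℕ) : Bool := upOK i && forOK i && (decide (19682 ≤ i) || decide (codeT i < codeT (i + 1)))

/-- The conditions on a range. -/
def rangeOK (lo len : ℕ) : Bool := (List.range len).all fun k => entryOK (lo + k)

theorem rangeOK_spec {lo len i : ℕ} (h : rangeOK lo len = true) (h1 : lo ≤ i) (h2 : i < lo + len) :
    entryOK i = true := by
  have := List.all_eq_true.1 h (i - lo) (List.mem_range.2 (by omega))
  rwa [Nat.add_sub_cancel' h1] at this

end Cfsg.Lib.OrthSevenThree
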